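import Groth.Agent.S19051
import Groth.Agent.Lib.CurveCoh17.Euler
import Groth.Agent.Lib.CurveCoh17.Integral
import Groth.Agent.Lib.SecDiv18.Basic
import Groth.Agent.Lib.MumVan22.ChiTwist
import Groth.Agent.Lib.AmpleFin18.PushEuler
import Groth.Agent.Lib.CohFound.ClosedImmPush
import Groth.Agent.Lib.CohFound.SerreVan

/-!
Hom spaces between ideal sheaves; kernels of restrictions to finite subschemes.
-/

set_option autoImplicit false
set_option linter.style.haveILetI false
set_option maxHeartbeats 1000000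
set_option backward.isDefEq.respectTransparency false
set_option backward.isDefEq.respectTransparency.types false

universe u

open CategoryTheory CategoryTheory.Limits AlgebraicGeometry TopologicalSpace Opposite

namespace Groth.Agent.NonPure4

variable {X : Scheme.{u}}

theorem mono_of_ne_zero [IsIntegral X] (W : X.IdealSheafData) (f : ClSub.idealMod W ⟶ Coh.structureModule X)
    (hf : f ≠ 0) : Mono f := by
  haveI : Mono (ClSub.idealModι W) := inferInstanceAs (Mono (kernel.ι (ClSub.toSubscheme W)))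
  have key : ∀ (U : X.Opens) (a : Γ(ClSub.idealMod W, U)), f.app U a = 0 → a = 0 := by
    intro U a ha
    by_contra ha0
    refine hf (Scheme.Modules.hom_ext _ _ fun U' => ?_)
    ext b
    show f.app U' b = 0
    by_cases hne : Nonempty U'
    swap
    · refine M1.section_ext (M := Coh.structureModule X) _ _ fun x hx => absurd ⟨⟨x, hx⟩⟩ hne
    have hneU : Nonempty U := by
      by_contra h
      exact ha0 (M1.section_ext (M := ClSub.idealMod W) _ _ fun x hx => absurd ⟨⟨x, hx⟩⟩ h)
    obtain ⟨⟨p, hp⟩⟩ := hneU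
    obtain ⟨⟨p', hp'⟩⟩ := hne
    obtain ⟨t, -, ht⟩ := nonempty_preirreducible_inter U.2 U'.2 ⟨p, hp⟩ ⟨p', hp'⟩ |>.imp fun t h => (⟨trivial, h⟩ : True ∧ t ∈ (U : Set X) ∩ U')
    haveI : Nonempty (U ⊓ U' : X.Opens) := ⟨⟨t, ht⟩⟩
    haveI : Nonempty U' := ⟨⟨p', hp'⟩⟩
    haveI : Nonempty U := ⟨⟨p, hp⟩⟩
    let a' := M1.mres (ClSub.idealMod W) (inf_le_left : U ⊓ U' ≤ U) a
    let b' := M1.mres (ClSub.idealMod W) (inf_le_right : U ⊓ U' ≤ U') b
    have hab : M2.idealIncl W a' • b' = M2.idealIncl W b' • a' := M2.idealIncl_injective W _ (by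
      rw [M2.idealIncl_smul, M2.idealIncl_smul, mul_comm])
    have h1 := congrArg (f.app (U ⊓ U')) hab
    rw [Scheme.Modules.Hom.app_smul, Scheme.Modules.Hom.app_smul,
      show f.app (U ⊓ U') a' = 0 from (M1.map_app_eq f inf_le_left a).trans (by rw [ha, map_zero]), smul_zero] at h1
    have ha' : M2.idealIncl W a' ≠ 0 := fun h => ha0 (M2.idealIncl_injective W U (by
      refine map_injective_of_isIntegral X (homOfLE (inf_le_left : U ⊓ U' ≤ U)) ?_
      rw [← M2.idealIncl_res W inf_le_left a]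
      refine h.trans ?_
      rw [show M2.idealIncl W (0 : Γ(ClSub.idealMod W, U)) = 0 from map_zero ((ClSub.idealModι W).app U).hom, map_zero]))
    have h2 : (show Γ(X, U ⊓ U') from f.app (U ⊓ U') b') = 0 :=
      (mul_eq_zero.1 (show M2.idealIncl W a' * (show Γ(X, U ⊓ U') from f.app (U ⊓ U') b') = 0 from h1)).resolve_left ha'
    refine map_injective_of_isIntegral X (homOfLE (inf_le_right : U ⊓ U' ≤ U')) ?_
    rw [map_zero]
    exact (M1.map_app_eq f inf_le_right b).symm.trans h2
  exact ⟨fun {Z} g h e => Scheme.Modules.hom_ext _ _ fun U => by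
    ext z
    refine sub_eq_zero.1 (key U _ ?_)
    rw [map_sub, sub_eq_zero]
    exact congrArg (fun φ => φ.app U z) e⟩

theorem isIso_of_ne_zero (K : Type u) [Field K] [X.Over (Spec (CommRingCat.of K))] [IsIntegral X]
    [IsProper (X ↘ Spec (CommRingCat.of K))] (W : X.IdealSheafData)
    (e : ClSub.idealMod W ⟶ ClSub.idealMod W) (he : e ≠ 0) : IsIso e := by
  haveI : Mono (ClSub.idealModι W) := inferInstanceAs (Mono (kernel.ι (ClSub.toSubscheme W)))
  haveI : Mono (e ≫ ClSub.idealModι W) := mono_of_ne_zero W _ fun h => he (zero_of_comp_mono _ h)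
  haveI : Mono e := mono_of_mono e (ClSub.idealModι W)
  haveI : IsNoetherian X := CohFound.isNoetherian_of_isProper (X ↘ Spec (CommRingCat.of K))
  haveI : Module.Finite K (ClSub.idealMod W ⟶ ClSub.idealMod W) :=
    KS29.finite_hom (CurveCoh17.isCoh_idealMod W) (CurveCoh17.isCoh_idealMod W)
  let R := Linear.rightComp K (ClSub.idealMod W) e
  have hR : Function.Injective R := fun g h hgh => (cancel_mono e).1 hgh
  obtain ⟨g, hg⟩ := (LinearMap.injective_iff_surjective (f := R)).1 hR (𝟙 _)
  haveI : IsSplitEpi e := ⟨⟨⟨g, hg⟩⟩⟩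
  exact isIso_of_mono_of_isSplitEpi e

/-- The kernel of restriction to a finite locally free subscheme of degree `ℓ`. -/
theorem euler_kernel (K : Type u) [Field K] {Y D : Scheme.{u}} [Y.Over (Spec (CommRingCat.of K))]
    [IsProper (Y ↘ Spec (CommRingCat.of K))] (l : D ⟶ Y) [IsClosedImmersion l] (ℓ : ℕ)
    (hD : Mor2.IsFinLocFreeOfDeg ℓ (l ≫ (Y ↘ Spec (CommRingCat.of K))))
    (M : Y.Modules) (hM : PicF.IsInvertible M) (m : ℕ) :
    Curv2.euler K Y (ShStab.twist Y M (kernel (ClSub.unitToPush l)) m) =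
      Curv2.euler K Y (ShStab.twist Y M (Coh.structureModule Y) m) - ℓ := by
  haveI : IsNoetherian Y := CohFound.isNoetherian_of_isProper (Y ↘ Spec (CommRingCat.of K))
  letI : D.Over (Spec (CommRingCat.of K)) := ⟨l ≫ (Y ↘ Spec (CommRingCat.of K))⟩
  let d := D ↘ Spec (CommRingCat.of K)
  haveI : IsFinite d := hD.1.1
  haveI : Flat d := hD.1.2.1
  haveI : IsProper d := inferInstance
  haveI : IsNoetherian D := CohFound.isNoetherian_of_isProper d
  haveI : IsAffine D := isAffine_of_isAffineHom d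
  letI : Algebra K Γ(D, ⊤) := (Coh.toGlobal d).toAlgebra
  have hφ : Spec.map (CommRingCat.ofHom (algebraMap K Γ(D, ⊤))) = D.isoSpec.inv ≫ d := by
    rw [← Scheme.isoSpec_inv_naturality, Scheme.isoSpec_Spec_inv, ← Spec.map_comp]
    rfl
  haveI : Module.Finite K Γ(D, ⊤) := (IsFinite.SpecMap_iff (f := CommRingCat.ofHom (algebraMap K Γ(D, ⊤)))).1
    (by rw [hφ]; infer_instance)
  haveI : IsArtinianRing Γ(D, ⊤) := IsArtinianRing.of_finite K _
  haveI : DiscreteTopology ↥(Spec Γ(D, ⊤)) := inferInstanceAs (DiscreteTopology (PrimeSpectrum _))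
  haveI : DiscreteTopology D := D.isoSpec.hom.homeomorph.symm.discreteTopology
  haveI : Finite D := finite_of_compact_of_discrete
  let P := (Scheme.Modules.pushforward l).obj (Coh.structureModule D)
  let π : Coh.structureModule Y ⟶ P := ClSub.unitToPush l
  have hPc : Coh.IsCoh P := CohFound.isCoh_push_closedImm l (M1.isCoh_structureModule D)
  haveI : Epi π := by
    refine (M1.epi_iff_locally_surjective _).mpr fun U t x hx => ?_
    obtain ⟨W, hW, hxW, hWU⟩ := exists_isAffineOpen_mem_and_subset hx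
    obtain ⟨s, hs⟩ := l.app_surjective W hW (P.presheaf.map (homOfLE hWU).op t)
    exact ⟨W, hWU, hxW, s, hs⟩
  have hS : (ShortComplex.mk (kernel.ι π) π (kernel.condition π)).ShortExact :=
    { exact := ShortComplex.exact_of_f_is_kernel _ (kernelIsKernel π) }
  classical
  let S : Finset Y := (Set.finite_range (fun z : D => l z)).toFinset
  have hsupp : CurveCoh17.SuppIn P S := by
    refine ⟨fun x hx => ?_, fun x hx a => M1.eq_zero_stalk_push l _ (fun h => hx ?_) a⟩
    · obtain ⟨z, rfl⟩ := (Set.Finite.mem_toFinset _).1 hx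
      rw [← Set.image_singleton]
      exact l.isClosedEmbedding.isClosedMap _ (isClosed_discrete _)
    · exact (Set.Finite.mem_toFinset _).2 h
  haveI hfin : Module.Finite K (Coh.HH Y P 0) := CohFound.finite_HH_of_isProper P hPc 0
  have hT : PicF.IsInvertible (CohB1.tensorPow M m) := M2.isInvertible_tensorPow hM m
  have h1 := ChiTwist22.euler_add_coh (k := K) (CohFound.shortExact_tensor_invertible hS hT)
    (CurveCoh17.isCoh_tensor (M1.isCoh_kernel (M1.isCoh_structureModule Y) hPc.1 π) (Snapper.isCoh_of_isInvertible hT))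
    (CurveCoh17.isCoh_tensor (M1.isCoh_structureModule Y) (Snapper.isCoh_of_isInvertible hT))
    (CurveCoh17.isCoh_tensor hPc (Snapper.isCoh_of_isInvertible hT))
  change Curv2.euler K Y (ShStab.twist Y M (Coh.structureModule Y) m) =
    Curv2.euler K Y (ShStab.twist Y M (kernel π) m) + Curv2.euler K Y (ShStab.twist Y M P m) at h1
  have he := CurveCoh17.nonempty_stalk_equiv ((M2.isInvertible_iff_isFinLocFreeOfRank_one _).1 hT)
  have h2 : Curv2.euler K Y (ShStab.twist Y M P m) = ℓ := by
    show Curv2.euler K Y (CohB1.tensorMod P (CohB1.tensorPow M m)) = ℓ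
    rw [(hsupp.tensor _).euler_eq (hsupp.finite_tensor hfin _ he), hsupp.finrank_tensor hfin _ he, one_mul,
      ← hsupp.euler_eq hfin]
    show Curv2.euler K Y ((Scheme.Modules.pushforward l).obj (Coh.structureModule D)) = ℓ
    rw [AmpleFin18.euler_push l rfl _ (M1.isQCoh_structureModule D)]
    have hDs : CurveCoh17.SuppIn (Coh.structureModule D) (Set.finite_univ (α := D)).toFinset :=
      ⟨fun x _ => isClosed_discrete _, fun x hx => absurd (by simp) hx⟩
    have hfD : Module.Finite K (Coh.HH D (Coh.structureModule D) 0) := CohFound.finite_HH_of_isProper _ (M1.isCoh_structureModule D) 0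
    let hh0' : Coh.HH D (Coh.structureModule D) 0 ≃+ Γ(D, ⊤) := CurveCoh17.hh0 (Coh.structureModule D)
    let hh : Coh.HH D (Coh.structureModule D) 0 ≃ₗ[K] Γ(D, ⊤) :=
      hh0'.toLinearEquiv fun c x => (CurveCoh17.hh0_smul _ x).trans (Algebra.smul_def (R := K) (A := Γ(D, ⊤)) c _).symm
    let y₀ : Spec (CommRingCat.of K) := IsLocalRing.closedPoint K
    have hdeg : Scheme.Hom.finrank d y₀ = ℓ := hD.2 y₀
    have hd' : d = D.isoSpec.hom ≫ Spec.map (CommRingCat.ofHom (algebraMap K Γ(D, ⊤))) := by rw [hφ, Iso.hom_inv_id_assoc]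
    haveI : Flat (Spec.map (CommRingCat.ofHom (algebraMap K Γ(D, ⊤)))) := by rw [hφ]; infer_instance
    haveI : IsFinite (Spec.map (CommRingCat.ofHom (algebraMap K Γ(D, ⊤)))) := by rw [hφ]; infer_instance
    rw [hd', Scheme.Hom.finrank_comp_left_of_isIso, Scheme.Hom.finrank_SpecMap_algebraMap,
      Module.rankAtStalk_eq_finrank_of_free] at hdeg
    rw [hDs.euler_eq hfD, hh.finrank_eq]
    exact_mod_cast hdeg
  rw [h2] at h1
  exact eq_sub_of_add_eq h1.symm

end Groth.Agent.NonPure4
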